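import Cfsg.Agent.FourGroupRank1915.Rel
import Cfsg.Agent.Lib.TransferThompson

/-!
# A four group acting on a perfect group with small fixed-point 2-ranks
-/

namespace Cfsg.FourGroupRank1915

set_option linter.unusedSectionVars false
set_option maxHeartbeats 800000

open Subgroup Cfsg.Agent.PGroupsCyclic Cfsg.Agent.PGroupsBasic

variable {G : Type*} [Group G] [Finite G]

/-- Two distinct commuting involutions. -/
def Four (a b : G) : Prop :=
  a ≠ 1 ∧ b ≠ 1 ∧ a ≠ b ∧ a ^ 2 = 1 ∧ b ^ 2 = 1 ∧ a * b = b * a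

/-- The subgroup `{1, a, b, ab}`. -/
def klein {a b : G} (h : Four a b) : Subgroup G where
  carrier := {1, a, b, a * b}
  one_mem' := by simp
  mul_mem' := by
    obtain ⟨-, -, -, ha, hb, hab⟩ := h
    rw [pow_two] at ha hb
    have e1 : ∀ y, a * (a * y) = y := fun y => by rw [← mul_assoc, ha, one_mul]
    have e2 : ∀ y, b * (b * y) = y := fun y => by rw [← mul_assoc, hb, one_mul]
    have e3 : ∀ y, b * (a * y) = a * (b * y) := fun y => by rw [← mul_assoc, ← hab, mul_assoc]
    rintro x y (rfl | rfl | rfl | rfl) (rfl | rfl | rfl | rfl) <;>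
      simp [mul_assoc, ha, hb, ← hab, e1, e2, e3]
  inv_mem' := by
    obtain ⟨-, -, -, ha, hb, hab⟩ := h
    rw [pow_two] at ha hb
    rintro x (rfl | rfl | rfl | rfl) <;>
      simp [inv_eq_of_mul_eq_one_right ha, inv_eq_of_mul_eq_one_right hb, hab]

theorem mem_klein {a b : G} {h : Four a b} {x : G} :
    x ∈ klein h ↔ x = 1 ∨ x = a ∨ x = b ∨ x = a * b := Iff.rfl

theorem klein_elementary {a b : G} (h : Four a b) :
    IsMulCommutative (klein h) ∧ ∀ x ∈ klein h, x ^ 2 = 1 := by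
  obtain ⟨-, -, -, ha, hb, hab⟩ := id h
  have hab' : (a * b) ^ 2 = 1 := by rw [(show Commute a b from hab).mul_pow, ha, hb, one_mul]
  have hsq : ∀ x ∈ klein h, x ^ 2 = 1 := by
    intro x hx
    rcases mem_klein.1 hx with rfl | rfl | rfl | rfl
    · simp
    · exact ha
    · exact hb
    · exact hab'
  refine ⟨⟨⟨fun x y => Subtype.ext ?_⟩⟩, hsq⟩
  have hi : ∀ x ∈ klein h, x⁻¹ = x := fun x hx =>
    inv_eq_of_mul_eq_one_right (by rw [← pow_two]; exact hsq x hx)
  show (x : G) * y = y * x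
  rw [← hi _ (mul_mem x.2 y.2), mul_inv_rev, hi _ x.2, hi _ y.2]

theorem two_lt_card_klein {a b : G} (h : Four a b) : 2 < Nat.card (klein h) := by
  obtain ⟨ha1, hb1, hne, -⟩ := id h
  have h3 : ({1, a, b} : Set G).ncard = 3 := by
    rw [Set.ncard_insert_of_notMem (by simp [Ne.symm ha1, Ne.symm hb1]),
      Set.ncard_insert_of_notMem (by simpa using hne), Set.ncard_singleton]
  have hsub : ({1, a, b} : Set G) ⊆ (klein h : Set G) := by
    intro x hx
    simp only [Set.mem_insert_iff, Set.mem_singleton_iff] at hx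
    rcases hx with rfl | rfl | rfl <;> simp [mem_klein]
  have := Set.ncard_le_ncard hsub (Set.toFinite _)
  rw [h3, ← Nat.card_coe_set_eq] at this
  exact this

theorem four_of_card {E : Subgroup G} (hc : IsMulCommutative E) (he : ∀ x ∈ E, x ^ 2 = 1)
    (h : 2 < Nat.card E) : ∃ a ∈ E, ∃ b ∈ E, Four a b := by
  have hE : E ≠ ⊥ := by
    intro h'; rw [h', card_bot] at h; omega
  obtain ⟨a, ha, ha1⟩ := E.bot_or_exists_ne_one.resolve_left hE
  have : ¬ (E : Set G) ⊆ {1, a} := by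
    intro hs
    have := Set.ncard_le_ncard hs (Set.toFinite _)
    rw [Set.ncard_pair (Ne.symm ha1), ← Nat.card_coe_set_eq] at this
    exact absurd (lt_of_lt_of_le h this) (lt_irrefl _)
  obtain ⟨b, hb, hb'⟩ := Set.not_subset.1 this
  simp only [Set.mem_insert_iff, Set.mem_singleton_iff, not_or] at hb'
  exact ⟨a, ha, b, hb, ha1, hb'.1, Ne.symm hb'.2, he a ha, he b hb,
    comm_of_isMulCommutative hc ha hb⟩

theorem Four.conj {a b : G} (h : Four a b) (g : G) : Four (g * a * g⁻¹) (g * b * g⁻¹) := by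
  obtain ⟨h1, h2, h3, h4, h5, h6⟩ := h
  refine ⟨mt conj_eq_one_iff.1 h1, mt conj_eq_one_iff.1 h2, fun e => h3 ?_, by
    rw [conj_pow, h4, mul_one, mul_inv_cancel], by rw [conj_pow, h5, mul_one, mul_inv_cancel], ?_⟩
  · exact mul_left_cancel (mul_right_cancel e)
  · calc g * a * g⁻¹ * (g * b * g⁻¹) = g * (a * b) * g⁻¹ := by group
      _ = g * (b * a) * g⁻¹ := by rw [h6]
      _ = _ := by group

/-- In a four group acting on two values, some involution fixes. -/
theorem exists_fix {U : Subgroup G} (hU : IsKleinFour U) {e e' : G}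
    (h : ∀ u ∈ U, u * e * u⁻¹ = e ∨ u * e * u⁻¹ = e') :
    ∃ u ∈ U, u ≠ 1 ∧ u * e = e * u := by
  have h4 : Nat.card U = 4 := hU.card_four
  have hsq : ∀ u ∈ U, u ^ 2 = 1 := by
    intro u hu
    have h2 := hU.exponent_two
    have := Monoid.pow_exponent_eq_one (⟨u, hu⟩ : U)
    rw [h2] at this
    simpa using congrArg Subtype.val this
  have hne : U ≠ ⊥ := by intro h'; rw [h', card_bot] at h4; omega
  obtain ⟨u₁, hu₁, hu₁1⟩ := U.bot_or_exists_ne_one.resolve_left hne
  have : ¬ (U : Set G) ⊆ {1, u₁} := by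
    intro hs
    have := Set.ncard_le_ncard hs (Set.toFinite _)
    rw [Set.ncard_pair (Ne.symm hu₁1), ← Nat.card_coe_set_eq] at this
    simp only [SetLike.coe_sort_coe] at this; omega
  obtain ⟨u₂, hu₂, hu₂'⟩ := Set.not_subset.1 this
  simp only [Set.mem_insert_iff, Set.mem_singleton_iff, not_or] at hu₂'
  rcases h u₁ hu₁ with h1 | h1
  · exact ⟨u₁, hu₁, hu₁1, mul_inv_eq_iff_eq_mul.1 h1⟩
  rcases h u₂ hu₂ with h2 | h2
  · exact ⟨u₂, hu₂, hu₂'.1, mul_inv_eq_iff_eq_mul.1 h2⟩
  refine ⟨u₁ * u₂, mul_mem hu₁ hu₂, fun h' => hu₂'.2 ?_, mul_inv_eq_iff_eq_mul.1 ?_⟩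
  · have := eq_inv_of_mul_eq_one_right h'
    rw [this]
    exact inv_eq_of_mul_eq_one_right (by rw [← pow_two]; exact hsq u₁ hu₁)
  · have hinv : u₁⁻¹ = u₁ := inv_eq_of_mul_eq_one_right (by rw [← pow_two]; exact hsq u₁ hu₁)
    calc u₁ * u₂ * e * (u₁ * u₂)⁻¹ = u₁ * (u₂ * e * u₂⁻¹) * u₁⁻¹ := by group
      _ = u₁ * (u₁ * e * u₁⁻¹) * u₁⁻¹ := by rw [h2, h1]
      _ = e := by
        rw [hinv]
        have := hsq u₁ hu₁
        rw [pow_two] at this
        calc u₁ * (u₁ * e * u₁) * u₁ = (u₁ * u₁) * e * (u₁ * u₁) := by group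
          _ = e := by rw [this]; simp

/-- The main step: a perfect group normalized by a four group, in which no involution of the four
group centralizes a four subgroup, has no four subgroup. -/
theorem no_four {A U : Subgroup G} (hperf : ⁅(⊤ : Subgroup A), (⊤ : Subgroup A)⁆ = ⊤)
    (hUA : U ≤ normalizer (A : Set G)) (hU : IsKleinFour U)
    (hsmall : ∀ u ∈ U, u ≠ 1 → ∀ a ∈ A, ∀ b ∈ A, Four a b → u * a = a * u → u * b = b * u → False)
    {a₀ b₀ : G} (ha₀ : a₀ ∈ A) (hb₀ : b₀ ∈ A) (h₀ : Four a₀ b₀) : False := by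
  classical
  have : Fact (Nat.Prime 2) := ⟨Nat.prime_two⟩
  have hUsq : ∀ u ∈ U, u ^ 2 = 1 := by
    intro u hu
    have h2 := hU.exponent_two
    have := Monoid.pow_exponent_eq_one (⟨u, hu⟩ : U)
    rw [h2] at this
    simpa using congrArg Subtype.val this
  set H := A ⊔ U with hH
  have hHA : H ≤ normalizer (A : Set G) := sup_le le_normalizer hUA
  have hnorm : ∀ h ∈ H, ∀ a ∈ A, h * a * h⁻¹ ∈ A := fun h hh a ha =>
    ((mem_normalizer_iff.mp (hHA hh)) a).mp ha
  have hUp : IsPGroup 2 (U.subgroupOf H) := fun g =>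
    ⟨1, Subtype.ext (Subtype.ext (by simpa using hUsq _ g.2))⟩
  obtain ⟨PH, hPH⟩ := hUp.exists_le_sylow
  set P : Subgroup G := (PH : Subgroup H).map H.subtype with hP
  have hPH' : P ≤ H := map_subtype_le _
  have hUP : U ≤ P := fun u hu =>
    ⟨⟨u, mem_sup_right hu⟩, hPH hu, rfl⟩
  have hP2 : IsPGroup 2 P := PH.isPGroup'.map _
  set S : Subgroup G := A ⊓ P with hS
  have hS2 : IsPGroup 2 S := hP2.to_le inf_le_right
  have hQS : ∀ Q : Subgroup G, Q ≤ A → IsPGroup 2 Q → ∃ h ∈ H, ∀ q ∈ Q, h * q * h⁻¹ ∈ S := by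
    intro Q hQA hQ
    obtain ⟨R, hR⟩ := (hQ.comap_of_injective H.subtype H.subtype_injective).exists_le_sylow
    obtain ⟨h, hh⟩ := MulAction.exists_smul_eq H R PH
    refine ⟨h, h.2, fun q hq => ⟨hnorm _ h.2 _ (hQA hq), ?_⟩⟩
    have hmem : (⟨q, mem_sup_left (hQA hq)⟩ : H) ∈ (R : Subgroup H) := hR hq
    have h2 : h * ⟨q, mem_sup_left (hQA hq)⟩ * h⁻¹ ∈ (PH : Subgroup H) := by
      rw [← hh]
      exact ⟨_, hmem, rfl⟩
    exact ⟨_, h2, rfl⟩
  -- a four group inside `S`
  obtain ⟨a₁, b₁, ha₁, hb₁, h₁⟩ : ∃ a b, a ∈ S ∧ b ∈ S ∧ Four a b := by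
    obtain ⟨h, -, hh⟩ := hQS (klein h₀) (fun x hx => by
      rcases mem_klein.1 hx with rfl | rfl | rfl | rfl
      · exact one_mem _
      · exact ha₀
      · exact hb₀
      · exact mul_mem ha₀ hb₀) (fun g => ⟨1, Subtype.ext (by simpa using (klein_elementary h₀).2 _ g.2)⟩)
    exact ⟨_, _, hh a₀ (by simp [mem_klein]), hh b₀ (by simp [mem_klein]), h₀.conj h⟩
  -- `U` meets `A` trivially
  have hUtriv : ∀ u ∈ U, u ∈ A → u = 1 := by
    intro u hu huA
    by_contra hu1
    obtain ⟨h, hhH, hh⟩ := hQS (zpowers u) (zpowers_le.mpr huA) (fun g => by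
      obtain ⟨i, hi⟩ := mem_zpowers_iff.mp g.2
      refine ⟨1, Subtype.ext ?_⟩
      show (g : G) ^ (2 ^ 1) = 1
      rw [← hi, pow_one, ← zpow_natCast, ← zpow_mul, mul_comm, zpow_mul, zpow_natCast, hUsq u hu,
        one_zpow])
    have hu' := hh u (mem_zpowers u)
    set u' := h * u * h⁻¹ with hu'def
    have hu'2 : u' ^ 2 = 1 := by rw [hu'def, conj_pow, hUsq u hu, mul_one, mul_inv_cancel]
    have hu'1 : u' ≠ 1 := mt conj_eq_one_iff.1 hu1
    have key : ∀ a b, a ∈ S → b ∈ S → Four a b → u' * a = a * u' → u' * b = b * u' → False := by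
      intro a b ha hb hf e1 e2
      have back : ∀ y, u' * y = y * u' → u * (h⁻¹ * y * h) = (h⁻¹ * y * h) * u := by
        intro y hy
        calc u * (h⁻¹ * y * h) = h⁻¹ * (u' * y) * h := by rw [hu'def]; group
          _ = h⁻¹ * (y * u') * h := by rw [hy]
          _ = _ := by rw [hu'def]; group
      have hA' : ∀ y ∈ S, h⁻¹ * y * h ∈ A := fun y hy => by
        simpa using hnorm h⁻¹ (inv_mem hhH) y hy.1
      refine hsmall u hu hu1 _ (hA' a ha) _ (hA' b hb) ?_ (back a e1) (back b e2)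
      simpa using hf.conj h⁻¹
    have : Nontrivial S := (S.nontrivial_iff_exists_ne_one).2 ⟨u', hu', hu'1⟩
    have hZ : Nontrivial (center S) := hS2.center_nontrivial
    obtain ⟨c, hc⟩ := exists_prime_orderOf_dvd_card' (G := center S) 2 (by
      obtain ⟨k, hk0, hk⟩ := (hS2.to_subgroup _).nontrivial_iff_card.mp hZ
      rw [hk]; exact dvd_pow_self _ hk0.ne')
    have hc2 : ((c : S) : G) ^ 2 = 1 := by
      have := congrArg (fun z : center S => ((z : S) : G)) (hc ▸ pow_orderOf_eq_one c)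
      simpa using this
    have hc1 : ((c : S) : G) ≠ 1 := by
      intro h'
      have : c = 1 := by ext; simpa using h'
      rw [this, orderOf_one] at hc; omega
    have hcS : ∀ y ∈ S, y * ((c : S) : G) = ((c : S) : G) * y := fun y hy =>
      congrArg Subtype.val (mem_center_iff.mp c.2 ⟨y, hy⟩)
    by_cases he : u' = ((c : S) : G)
    · exact key a₁ b₁ ha₁ hb₁ h₁ (by rw [he, hcS a₁ ha₁]) (by rw [he, hcS b₁ hb₁])
    · exact key u' _ hu' (c : S).2 ⟨hu'1, hc1, he, hu'2, hc2, hcS u' hu'⟩ rfl (hcS u' hu')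
  -- the structure of `S`
  have hAP : (A.subgroupOf P).Normal := ⟨fun g hg p => hnorm p (hPH' p.2) g hg⟩
  rcases four_or_cyclic_index_two hP2 (A.subgroupOf P) with
    ⟨E, hEn, hES, hE4, hEel⟩ | hcyc | ⟨x, e, hxA, hxn, hxo, he2, hsq, hidx, hr3⟩
  · obtain ⟨z, hzE, hz1, hzc⟩ : ∃ z ∈ E, z ≠ 1 ∧ ∀ p : P, p * z = z * p := by
      have hne : E ≠ ⊥ := by intro h'; rw [h', card_bot] at hE4; omega
      obtain ⟨z, hz, hz1⟩ := (E ⊓ center P).bot_or_exists_ne_one.resolve_left
        (Cfsg.Agent.PGroupsBasic.inf_center_ne_bot hP2 hne)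
      exact ⟨z, hz.1, hz1, fun p => mem_center_iff.mp hz.2 p⟩
    have : ¬ (E : Set P) ⊆ {1, z} := by
      intro hs
      have := Set.ncard_le_ncard hs (Set.toFinite _)
      rw [Set.ncard_pair (Ne.symm hz1), ← Nat.card_coe_set_eq] at this
      simp only [SetLike.coe_sort_coe] at this; omega
    obtain ⟨f, hfE, hf'⟩ := Set.not_subset.1 this
    simp only [Set.mem_insert_iff, Set.mem_singleton_iff, not_or] at hf'
    have hf : Four z f := ⟨hz1, hf'.1, Ne.symm hf'.2, hEel.2 z hzE, hEel.2 f hfE,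
      comm_of_isMulCommutative hEel.1 hzE hfE⟩
    have hEk : ∀ y ∈ E, y = 1 ∨ y = z ∨ y = f ∨ y = z * f := by
      have hle : klein hf ≤ E := fun y hy => by
        rcases mem_klein.1 hy with rfl | rfl | rfl | rfl
        · exact one_mem _
        · exact hzE
        · exact hfE
        · exact mul_mem hzE hfE
      have h4 : 4 ≤ Nat.card (klein hf) := by
        obtain ⟨k, hk⟩ := IsPGroup.iff_card.mp (hP2.to_subgroup (klein hf))
        have := two_lt_card_klein hf
        rw [hk] at this ⊢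
        have : 2 ≤ k := by
          by_contra h'; interval_cases k <;> omega
        calc 4 = 2 ^ 2 := rfl
          _ ≤ 2 ^ k := Nat.pow_le_pow_right (by norm_num) this
      have := eq_of_le_of_card_ge hle (by omega)
      intro y hy
      exact mem_klein.1 (this ▸ hy)
    obtain ⟨u, hu, hu1, hufix⟩ := exists_fix hU (e := (f : G)) (e' := ((z * f : P) : G)) (fun u hu => by
      have hm := hEn.conj_mem f hfE ⟨u, hUP hu⟩
      rcases hEk _ hm with h | h | h | h
      · exact absurd (conj_eq_one_iff.1 h) hf'.1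
      · exfalso
        apply hf'.2
        have : f = (⟨u, hUP hu⟩ : P)⁻¹ * z * ⟨u, hUP hu⟩ := by rw [← h]; group
        rw [this, mul_assoc, ← hzc, ← mul_assoc, inv_mul_cancel, one_mul]
      · left; exact congrArg Subtype.val h
      · right; exact congrArg Subtype.val h)
    refine hsmall u hu hu1 z (hES hzE) f (hES hfE) ?_
      (congrArg Subtype.val (hzc ⟨u, hUP hu⟩)) hufix
    obtain ⟨h1, h2, h3, h4, h5, h6⟩ := hf
    exact ⟨fun h => h1 (Subtype.ext h), fun h => h2 (Subtype.ext h), fun h => h3 (Subtype.ext h),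
      congrArg Subtype.val h4, congrArg Subtype.val h5, congrArg Subtype.val h6⟩
  · obtain ⟨g, hg⟩ := hcyc.exists_generator
    have hord : ∀ y : A.subgroupOf P, y ^ 2 = 1 → y = 1 ∨ y = g ^ (orderOf g / 2) := by
      intro y hy
      have hgen : zpowers g = ⊤ := eq_top_iff.2 fun t _ => hg t
      obtain ⟨k, hk⟩ := (hP2.to_subgroup (A.subgroupOf P)) g
      obtain ⟨e, -, he⟩ := (Nat.dvd_prime_pow Nat.prime_two).mp (orderOf_dvd_of_pow_eq_one hk)
      rcases e with _ | e
      · left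
        have : g = 1 := orderOf_eq_one_iff.1 (by simpa using he)
        obtain ⟨i, hi⟩ := mem_zpowers_iff.mp (hg y)
        rw [← hi, this, one_zpow]
      · rw [he, pow_succ, Nat.mul_div_cancel _ two_pos]
        exact sq_eq_one_or_eq he (hg y) hy
    obtain ⟨h11, h12, h13, h14, h15, -⟩ := h₁
    let A₁ : A.subgroupOf P := ⟨⟨a₁, ha₁.2⟩, ha₁.1⟩
    let B₁ : A.subgroupOf P := ⟨⟨b₁, hb₁.2⟩, hb₁.1⟩
    rcases hord A₁ (by ext; simpa [A₁] using h14) with h | h
    · exact h11 (by simpa [A₁] using congrArg (fun t : A.subgroupOf P => ((t : P) : G)) h)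
    rcases hord B₁ (by ext; simpa [B₁] using h15) with h' | h'
    · exact h12 (by simpa [B₁] using congrArg (fun t : A.subgroupOf P => ((t : P) : G)) h')
    exact h13 (by simpa [A₁, B₁] using congrArg (fun t : A.subgroupOf P => ((t : P) : G)) (h.trans h'.symm))
  -- push the cyclic subgroup into `G`
  obtain ⟨n, rfl⟩ : ∃ n, e = n + 2 := ⟨e - 2, by omega⟩
  set X : G := (x : G) with hX
  have hXS : X ∈ S := ⟨hxA, x.2⟩
  have hXo : orderOf X = 2 ^ (n + 2) := by rw [hX, Subgroup.orderOf_coe, hxo]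
  have tog : ∀ p : P, (p : G) ∈ zpowers X ↔ p ∈ zpowers x := by
    intro p
    constructor
    · intro hp
      obtain ⟨i, hi⟩ := mem_zpowers_iff.mp hp
      exact mem_zpowers_iff.mpr ⟨i, Subtype.ext (by simpa [hX] using hi)⟩
    · intro hp
      obtain ⟨i, hi⟩ := mem_zpowers_iff.mp hp
      exact mem_zpowers_iff.mpr ⟨i, by simpa [hX] using congrArg Subtype.val hi⟩
  have hRn : ∀ p ∈ P, ∀ y ∈ zpowers X, p * y * p⁻¹ ∈ zpowers X := by
    intro p hp y hy
    obtain ⟨i, rfl⟩ := mem_zpowers_iff.mp hy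
    have hxi : (x ^ i) ∈ zpowers x := zpow_mem (mem_zpowers x) i
    simpa [hX] using (tog _).2 (hxn.conj_mem _ hxi ⟨p, hp⟩)
  have hRS : zpowers X ≤ S := zpowers_le.mpr hXS
  have hidx' : ∀ g ∈ S, g ∉ zpowers X → ∀ h ∈ S, h ∉ zpowers X → g * h ∈ zpowers X :=
    fun g hg hgn h hh hhn => (tog (⟨g, hg.2⟩ * ⟨h, hh.2⟩)).2
      (hidx ⟨g, hg.2⟩ hg.1 (fun t => hgn ((tog _).2 t)) ⟨h, hh.2⟩ hh.1 (fun t => hhn ((tog _).2 t)))
  have hr3' : ∀ g ∈ S, g ∉ zpowers X → ∃ r : ℤ, g * X * g⁻¹ = X ^ r ∧ r % 4 = 3 := by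
    intro g hg hgn
    obtain ⟨r, hr⟩ := exists_conj_eq_zpow hxn ⟨g, hg.2⟩
    refine ⟨r, by simpa [hX] using congrArg Subtype.val hr,
      hr3 ⟨g, hg.2⟩ hg.1 (fun t => hgn ((tog _).2 t)) r hr⟩
  set z : G := X ^ (2 ^ (n + 1)) with hzdef
  set w : G := X ^ (2 ^ n) with hwdef
  have hzR : z ∈ zpowers X := pow_mem (mem_zpowers X) _
  have hwR : w ∈ zpowers X := pow_mem (mem_zpowers X) _
  have hw2 : w ^ 2 = z := by rw [hwdef, hzdef, ← pow_mul, ← pow_succ]
  have hz2 : z ^ 2 = 1 := by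
    rw [hzdef, ← pow_mul, ← pow_succ, ← hXo, pow_orderOf_eq_one]
  have hz1 : z ≠ 1 := by
    intro h
    have := orderOf_dvd_of_pow_eq_one h
    rw [hXo, Nat.pow_dvd_pow_iff_le_right (by norm_num)] at this
    omega
  have hinv : ∀ y ∈ zpowers X, y ^ 2 = 1 → y = 1 ∨ y = z := fun y hy h2 =>
    sq_eq_one_or_eq (n := n + 1) hXo hy h2
  have hzP : ∀ p ∈ P, p * z = z * p := by
    intro p hp
    rcases hinv _ (hRn p hp z hzR) (by rw [conj_pow, hz2, mul_one, mul_inv_cancel]) with h | h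
    · exact absurd (conj_eq_one_iff.1 h) hz1
    · exact mul_inv_eq_iff_eq_mul.1 h
  -- centralizer of an outside involution in the cyclic part
  have hcR : ∀ g ∈ S, g ∉ zpowers X → ∀ y ∈ zpowers X, g * y = y * g → y ^ 2 = 1 := by
    intro g hg hgn y hy hgy
    obtain ⟨j, rfl⟩ := mem_zpowers_iff.mp hy
    obtain ⟨r, hr, hr4⟩ := hr3' g hg hgn
    have h1 : X ^ (r * j) = X ^ j := by
      rw [← conj_zpow_eq hr, hgy, mul_inv_cancel_right]
    rw [zpow_eq_iff_dvd, hXo] at h1
    push_cast at h1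
    rw [← zpow_natCast, ← zpow_mul, ← orderOf_dvd_iff_zpow_eq_one, hXo]
    push_cast
    obtain ⟨k, hk⟩ : ∃ k, r = 4 * k + 3 := ⟨r / 4, by omega⟩
    rw [show r * j - j = (2 * (2 * k + 1)) * j by rw [hk]; ring] at h1
    have hcop : IsCoprime ((2 : ℤ) ^ (n + 2)) (2 * k + 1) := by
      refine IsCoprime.pow_left ?_
      exact ⟨-k, 1, by ring⟩
    rw [show 2 * (2 * k + 1) * j = (2 * k + 1) * (j * 2) by ring] at h1
    exact hcop.dvd_of_dvd_mul_left h1
  -- four groups of `S`
  have hKS : ∀ a ∈ S, ∀ b ∈ S, Four a b →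
      (∃ s ∈ S, s ∉ zpowers X ∧ s ^ 2 = 1 ∧ (s = a ∨ s = b) ∧
        (z = a ∨ z = b ∨ z = a * b)) := by
    intro a ha b hb hf
    obtain ⟨ha1, hb1, hne, ha2, hb2, hab⟩ := hf
    by_cases haR : a ∈ zpowers X
    · have haz : a = z := (hinv a haR ha2).resolve_left ha1
      have hbR : b ∉ zpowers X := fun h => hne (haz.trans ((hinv b h hb2).resolve_left hb1).symm)
      exact ⟨b, hb, hbR, hb2, Or.inr rfl, Or.inl haz.symm⟩
    by_cases hbR : b ∈ zpowers X
    · exact ⟨a, ha, haR, ha2, Or.inl rfl, Or.inr (Or.inl ((hinv b hbR hb2).resolve_left hb1).symm)⟩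
    have habR := hidx' a ha haR b hb hbR
    have hab1 : a * b ≠ 1 := fun h => hne (by
      rw [eq_inv_of_mul_eq_one_left h]
      exact inv_eq_of_mul_eq_one_right (by rw [← pow_two]; exact hb2))
    refine ⟨a, ha, haR, ha2, Or.inl rfl, Or.inr (Or.inr ?_)⟩
    exact ((hinv _ habR (by rw [(show Commute a b from hab).mul_pow, ha2, hb2, one_mul])).resolve_left
      hab1).symm
  have hSC : ∀ Q : Subgroup G, Q ≤ A → IsPGroup 2 Q → ∀ a ∈ Q, ∀ b ∈ Q, ∀ hf : Four a b,
      (∀ q ∈ Q, q * a = a * q ∧ q * b = b * q) → ∀ q ∈ Q, q ∈ klein hf := by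
    intro Q hQA hQ2 a ha b hb hf hcomm q hq
    obtain ⟨h, -, hh⟩ := hQS Q hQA hQ2
    set c : G → G := fun t => h * t * h⁻¹ with hc
    have hcm : ∀ s t, c (s * t) = c s * c t := fun s t => by simp only [hc]; group
    obtain ⟨s, hsS, hsR, hs2, hsab, hzab⟩ := hKS (c a) (hh a ha) (c b) (hh b hb) (hf.conj h)
    have hqs : c q * s = s * c q := by
      obtain ⟨e1, e2⟩ := hcomm q hq
      rcases hsab with h' | h' <;> (rw [h', ← hcm, ← hcm]; first | rw [e1] | rw [e2])
    have hkz : ∃ k ∈ klein hf, c k = z := by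
      rcases hzab with h' | h' | h'
      · exact ⟨a, by simp [mem_klein], h'.symm⟩
      · exact ⟨b, by simp [mem_klein], h'.symm⟩
      · exact ⟨a * b, by simp [mem_klein], by rw [hcm, h']⟩
    have hks : ∃ k ∈ klein hf, c k = s := by
      rcases hsab with h' | h'
      · exact ⟨a, by simp [mem_klein], h'.symm⟩
      · exact ⟨b, by simp [mem_klein], h'.symm⟩
    have hk1 : c 1 = 1 := by simp [hc]
    have hinj : ∀ {s t}, c s = c t → s = t := fun e => mul_left_cancel (mul_right_cancel e)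
    obtain ⟨kz, hkz1, hkz2⟩ := hkz
    obtain ⟨ks, hks1, hks2⟩ := hks
    have hR : ∀ y ∈ zpowers X, s * y = y * s → ∃ k ∈ klein hf, c k = y := by
      intro y hy hsy
      rcases hinv y hy (hcR s hsS hsR y hy hsy) with rfl | rfl
      · exact ⟨1, one_mem _, hk1⟩
      · exact ⟨kz, hkz1, hkz2⟩
    by_cases hqR : c q ∈ zpowers X
    · obtain ⟨k, hk, hk'⟩ := hR _ hqR hqs.symm
      rwa [← hinj hk']
    · obtain ⟨k, hk, hk'⟩ := hR _ (hidx' _ (hh q hq) hqR s hsS hsR)
        (by rw [← mul_assoc, ← hqs])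
      have : c q = c (k * ks) := by
        rw [hcm, hk', hks2, mul_assoc, show s * s = 1 by rw [← pow_two]; exact hs2, mul_one]
      rw [hinj this]
      exact mul_mem hk hks1
  -- the involution of `U` fixing the element of order four
  obtain ⟨u, hu, hu1, huw⟩ := exists_fix hU (e := w) (e' := w⁻¹) (fun v hv => by
    have hm := hRn v (hUP hv) w hwR
    obtain ⟨i, hi⟩ := mem_zpowers_iff.mp (hRn v (hUP hv) X (mem_zpowers X))
    have h1 : v * w * v⁻¹ = w ^ i := by
      rw [hwdef, ← conj_pow, ← hi, ← zpow_natCast (X ^ i), ← zpow_mul, mul_comm, zpow_mul,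
        zpow_natCast]
    have hw4 : w ^ (4 : ℤ) = 1 := by
      rw [show (4 : ℤ) = ((2 * 2 : ℕ) : ℤ) by norm_num, zpow_natCast, pow_mul, hw2, hz2]
    have h4 : ∀ j : ℤ, w ^ j = w ^ (j % 4) := fun j => by
      conv_lhs => rw [show j = j % 4 + 4 * (j / 4) by omega, zpow_add, zpow_mul, hw4, one_zpow, mul_one]
    rcases (show i % 4 = 0 ∨ i % 4 = 1 ∨ i % 4 = 2 ∨ i % 4 = 3 by omega) with h | h | h | h <;>
      rw [h1, h4 i, h]
    · exfalso
      rw [h4 i, h, zpow_zero, conj_eq_one_iff] at h1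
      exact hz1 (by rw [← hw2, h1, one_pow])
    · left; simp
    · exfalso
      rw [h4 i, h, show (2 : ℤ) = ((2 : ℕ) : ℤ) from rfl, zpow_natCast, hw2] at h1
      have : w ^ 2 = 1 := by
        have hh : (v * w * v⁻¹) ^ 2 = 1 := by rw [h1, hz2]
        rwa [conj_pow, conj_eq_one_iff] at hh
      exact hz1 (hw2 ▸ this)
    · right
      rw [show (3 : ℤ) = 4 + -1 by norm_num, zpow_add, hw4, one_mul, zpow_neg_one])
  -- an involution of `S` outside the cyclic part
  obtain ⟨s, hsS, hsR, hs2, -, -⟩ := hKS a₁ ha₁ b₁ hb₁ h₁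
  have hs1 : s ≠ 1 := fun h => hsR (h ▸ one_mem _)
  have hsz : Four z s := ⟨hz1, hs1, fun h => hsR (h ▸ hzR), hz2, hs2, (hzP s hsS.2).symm⟩
  have huinv : u⁻¹ = u := inv_eq_of_mul_eq_one_right (by rw [← pow_two]; exact hUsq u hu)
  have hsinv : s⁻¹ = s := inv_eq_of_mul_eq_one_right (by rw [← pow_two]; exact hs2)
  have hus : u * s * u⁻¹ ∈ S :=
    mem_inf.mpr ⟨hnorm u (mem_sup_right hu) s hsS.1,
      mul_mem (mul_mem (hUP hu) hsS.2) (inv_mem (hUP hu) : u⁻¹ ∈ P)⟩
  have husR : u * s * u⁻¹ ∉ zpowers X := fun h => hsR (by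
    have := hRn u (hUP hu) _ h
    rwa [show u * (u * s * u⁻¹) * u⁻¹ = (u * u) * s * (u * u)⁻¹ by group,
      show u * u = 1 by rw [← pow_two]; exact hUsq u hu, inv_one, mul_one, one_mul] at this)
  set t := u * s * u⁻¹ * s with htdef
  have htR : t ∈ zpowers X := hidx' _ hus husR s hsS hsR
  have hut : u * t * u⁻¹ = t⁻¹ := by
    have huu : u * u = 1 := by rw [← pow_two]; exact hUsq u hu
    rw [htdef]
    simp only [mul_inv_rev, inv_inv, hsinv]
    calc u * (u * s * u⁻¹ * s) * u⁻¹ = (u * u) * s * (u⁻¹ * s * u⁻¹) := by group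
      _ = s * (u * s * u⁻¹) := by rw [huu, huinv, one_mul]
      _ = _ := by group
  have ht2 : t ^ 2 = 1 := by
    obtain ⟨j, hj⟩ := mem_zpowers_iff.mp htR
    obtain ⟨a, ha⟩ := mem_zpowers_iff.mp (hRn u (hUP hu) X (mem_zpowers X))
    have h1 : u * X ^ j * u⁻¹ = X ^ (a * j) := conj_zpow_eq ha.symm j
    rw [hj, hut, ← hj, ← zpow_neg, zpow_eq_iff_dvd, hXo] at h1
    push_cast at h1
    have ha4 : (4 : ℤ) ∣ a - 1 := by
      have h2 : u * w * u⁻¹ = w := by rw [huw, mul_inv_cancel_right]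
      rw [hwdef, ← zpow_natCast, conj_zpow_eq ha.symm, zpow_eq_iff_dvd, hXo] at h2
      push_cast at h2
      rw [show a * 2 ^ n - 2 ^ n = (a - 1) * 2 ^ n by ring, pow_add, mul_comm ((2 : ℤ) ^ n)] at h2
      simpa using (mul_dvd_mul_iff_right (by positivity : (2 : ℤ) ^ n ≠ 0)).1 h2
    obtain ⟨k, hk⟩ := ha4
    rw [← hj, ← zpow_natCast, ← zpow_mul, ← orderOf_dvd_iff_zpow_eq_one, hXo]
    push_cast
    have hcop : IsCoprime ((2 : ℤ) ^ (n + 2)) (2 * k + 1) :=
      IsCoprime.pow_left ⟨-k, 1, by ring⟩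
    rw [show -j - a * j = (2 * k + 1) * -(j * 2) by
      rw [show a = 4 * k + 1 by omega]; ring] at h1
    exact dvd_neg.1 (hcop.dvd_of_dvd_mul_left h1)
  have hus' : u * s * u⁻¹ = t * s := by
    rw [htdef, mul_assoc (u * s * u⁻¹), show s * s = 1 by rw [← pow_two]; exact hs2, mul_one]
  have huz : u * z = z * u := hzP u (hUP hu)
  have hus2 : u * s * u⁻¹ = z * s := by
    rcases hinv t htR ht2 with h | h
    · exfalso
      rw [h, one_mul] at hus'
      exact hsmall u hu hu1 z (hRS hzR).1 s hsS.1 hsz huz (mul_inv_eq_iff_eq_mul.1 hus')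
    · rw [hus', h]
  have hws : w * s * w⁻¹ = z * s := by
    obtain ⟨r, hr, hr4⟩ := hr3' s hsS hsR
    have h1 : s * w * s⁻¹ = w⁻¹ := by
      rw [hwdef, ← zpow_natCast, conj_zpow_eq hr, ← zpow_neg, zpow_eq_iff_dvd, hXo]
      push_cast
      obtain ⟨k, hk⟩ : ∃ k, r = 4 * k + 3 := ⟨r / 4, by omega⟩
      exact ⟨k + 1, by rw [hk, pow_add]; ring⟩
    have h2 : s * w⁻¹ = w * s := by
      calc s * w⁻¹ = (s * w * s⁻¹)⁻¹ * s := by group
        _ = w * s := by rw [h1, inv_inv]
    calc w * s * w⁻¹ = w * (s * w⁻¹) := by group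
      _ = w * (w * s) := by rw [h2]
      _ = z * s := by rw [← mul_assoc, ← pow_two, hw2]
  -- the element centralizing the four group with square `z`
  set xx := u * w with hxxdef
  have hzsq : z * z = 1 := by rw [← pow_two]; exact hz2
  have hxz : xx * z = z * xx := by
    rw [hxxdef, mul_assoc, hzP w (hRS hwR).2, ← mul_assoc, huz, mul_assoc]
  have hxs : xx * s = s * xx := by
    apply mul_inv_eq_iff_eq_mul.1
    calc xx * s * xx⁻¹ = u * (w * s * w⁻¹) * u⁻¹ := by rw [hxxdef]; group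
      _ = u * (z * s) * u⁻¹ := by rw [hws]
      _ = (u * z) * u⁻¹ * (u * s * u⁻¹) := by group
      _ = s := by rw [huz, hus2, mul_inv_cancel_right, ← mul_assoc, hzsq, one_mul]
  have hxx2 : xx ^ 2 = z := by
    rw [hxxdef, (show Commute u w from huw).mul_pow, hUsq u hu, one_mul, hw2]
  -- fusion in `A`
  obtain ⟨a, haA, hasz⟩ : ∃ a ∈ A, a * s * a⁻¹ = z := by
    have hSA : IsPGroup 2 (S.subgroupOf A) := hS2.comap_subtype
    obtain ⟨Q, hQ⟩ := hSA.exists_le_sylow
    have hQeq : (Q : Subgroup A) = S.subgroupOf A := by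
      obtain ⟨h, -, hh⟩ := hQS ((Q : Subgroup A).map A.subtype) (map_subtype_le _)
        (Q.isPGroup'.map _)
      refine (eq_of_le_of_card_ge hQ ?_).symm
      have : Nat.card (Q : Subgroup A) ≤ Nat.card S := by
        refine Nat.card_le_card_of_injective
          (fun q => (⟨h * ((q : A) : G) * h⁻¹, hh _ ⟨_, q.2, rfl⟩⟩ : S)) ?_
        intro q q' hqq
        exact Subtype.ext (Subtype.ext (mul_left_cancel (mul_right_cancel (congrArg Subtype.val hqq))))
      rwa [Nat.card_congr (subgroupOfEquivOfLe (inf_le_left : S ≤ A)).toEquiv]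
    set R' := (zpowers X).subgroupOf A
    have hR'Q : R' ≤ (Q : Subgroup A) := by
      rw [hQeq]; exact fun y hy => hRS hy
    have hrel : R'.relIndex (Q : Subgroup A) = 2 := by
      rw [relIndex, index_eq_two_iff]
      refine ⟨⟨⟨s, hsS.1⟩, by rw [hQeq]; exact hsS⟩, fun b => ?_⟩
      have hbS : ((b : A) : G) ∈ S := by
        exact (SetLike.ext_iff.mp hQeq _).mp b.2
      simp only [R', mem_subgroupOf, Subgroup.coe_mul]
      by_cases hb : ((b : A) : G) ∈ zpowers X
      · refine Or.inr ⟨hb, fun h => hsR ?_⟩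
        simpa using mul_mem (inv_mem hb) h
      · exact Or.inl ⟨hidx' _ hbS hb s hsS hsR, hb⟩
    by_contra hno
    push Not at hno
    obtain ⟨M, hMn, hM2, hsM⟩ := Cfsg.Agent.TransferThompson.thompson_transfer Q R' hR'Q hrel
      (u := ⟨s, hsS.1⟩) (orderOf_eq_prime (Subtype.ext (by simpa using hs2))
        (fun h => hs1 (congrArg Subtype.val h)))
      (by rw [hQeq]; exact hsS) (fun g hg => by
        have hgR : (g : G) * s * (g : G)⁻¹ ∈ zpowers X := hg
        exact hno g g.2 ((hinv _ hgR (by rw [conj_pow, hs2, mul_one, mul_inv_cancel])).resolve_left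
          (mt conj_eq_one_iff.1 hs1)))
    apply hsM
    have hcomm : ⁅(⊤ : Subgroup A), (⊤ : Subgroup A)⁆ ≤ M := by
      rw [commutator_le]
      intro g _ g' _
      rw [commutatorElement_def]
      simp [mul_mem_iff_of_index_two hM2, inv_mem_iff]
      tauto
    rw [hperf] at hcomm
    exact hcomm (mem_top _)
  -- a Sylow subgroup of the centralizer of `s`
  set K := klein hsz with hK
  have hKA : K ≤ A := fun y hy => by
    rcases mem_klein.1 hy with rfl | rfl | rfl | rfl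
    · exact one_mem _
    · exact (hRS hzR).1
    · exact hsS.1
    · exact mul_mem (hRS hzR).1 hsS.1
  have hK2 : IsPGroup 2 K := fun g =>
    ⟨1, Subtype.ext (by simpa using (klein_elementary hsz).2 _ g.2)⟩
  have hKz : z ∈ K := by simp [hK, mem_klein]
  have hKs : s ∈ K := by simp [hK, mem_klein]
  set L := A ⊓ centralizer ({s} : Set G) with hL
  have hKL : K ≤ L := le_inf hKA fun y hy => mem_centralizer_singleton_iff.mpr
    (comm_of_isMulCommutative (klein_elementary hsz).1 hy hKs)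
  obtain ⟨Q, hQ⟩ := (hK2.comap_subtype (K := L)).exists_le_sylow
  set Qg := (Q : Subgroup L).map L.subtype with hQg
  have hQgL : Qg ≤ L := map_subtype_le _
  have hKQ : K ≤ Qg := fun y hy => ⟨⟨y, hKL hy⟩, hQ hy, rfl⟩
  have hQg2 : IsPGroup 2 Qg := Q.isPGroup'.map _
  obtain ⟨y, hyQ, hyn, hyK⟩ : ∃ y ∈ Qg, (∀ k ∈ K, y * k * y⁻¹ ∈ K) ∧ y ∉ K := by
    have hlt : K.subgroupOf Qg < ⊤ := by
      rw [lt_top_iff_ne_top, Ne, subgroupOf_eq_top]
      intro hle
      have h1 : Nat.card Qg ≤ Nat.card K := Nat.card_le_card_of_injective (Subgroup.inclusion hle)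
        (Subgroup.inclusion_injective hle)
      -- a conjugate of `S` inside `L`
      let Sa : Subgroup G := S.map (MulAut.conj a⁻¹).toMonoidHom
      have hSaL : Sa ≤ L := by
        rintro _ ⟨q, hq, rfl⟩
        refine ⟨?_, mem_centralizer_singleton_iff.mpr ?_⟩
        · simpa using mul_mem (mul_mem (inv_mem haA) hq.1) haA
        · have hs' : s = a⁻¹ * z * a := by rw [← hasz]; group
          simp only [MulEquiv.coe_toMonoidHom, MulAut.conj_apply, inv_inv]
          rw [hs']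
          calc a⁻¹ * q * a * (a⁻¹ * z * a) = a⁻¹ * (q * z) * a := by group
            _ = a⁻¹ * (z * q) * a := by rw [hzP q hq.2]
            _ = _ := by group
      obtain ⟨Q', hQ'⟩ := ((hS2.map (MulAut.conj a⁻¹).toMonoidHom).comap_subtype (K := L)).exists_le_sylow
      have h2 : Nat.card S ≤ Nat.card Qg := by
        calc Nat.card S = Nat.card Sa := Nat.card_congr
              (S.equivMapOfInjective _ (MulAut.conj a⁻¹).injective).toEquiv
          _ = Nat.card (Sa.subgroupOf L) := (Nat.card_congr (subgroupOfEquivOfLe hSaL).toEquiv).symm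
          _ ≤ Nat.card (Q' : Subgroup L) := Nat.card_le_card_of_injective (Subgroup.inclusion hQ')
              (Subgroup.inclusion_injective hQ')
          _ = Nat.card (Q : Subgroup L) := by rw [Sylow.card_eq_multiplicity, Sylow.card_eq_multiplicity]
          _ = Nat.card Qg := Nat.card_congr
              ((Q : Subgroup L).equivMapOfInjective _ L.subtype_injective).toEquiv
      -- `S` contains `K` properly
      have hKS' : K < S := by
        refine lt_of_le_of_ne ?_ ?_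
        · intro t ht
          rcases mem_klein.1 ht with rfl | rfl | rfl | rfl
          · exact one_mem _
          · exact hRS hzR
          · exact hsS
          · exact mul_mem (hRS hzR) hsS
        · intro h
          have hwK : w ∈ K := h ▸ hRS hwR
          exact hz1 (hw2 ▸ (klein_elementary hsz).2 w hwK)
      have h3 : Nat.card K < Nat.card S := by
        have := Set.ncard_lt_ncard (SetLike.coe_ssubset_coe.mpr hKS') (Set.toFinite _)
        rwa [← Nat.card_coe_set_eq, ← Nat.card_coe_set_eq] at this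
      omega
    haveI := hQg2.isNilpotent
    obtain ⟨y, hy, hy'⟩ := SetLike.exists_of_lt (normalizerCondition_of_isNilpotent _ hlt)
    refine ⟨y, y.2, fun k hk => ?_, fun h => hy' h⟩
    exact (mem_normalizer_iff.mp hy ⟨k, hKQ hk⟩).mp hk
  have hyA : y ∈ A := (hQgL hyQ).1
  have hys : y * s = s * y := mem_centralizer_singleton_iff.mp (hQgL hyQ).2
  have hyz : y * z * y⁻¹ ≠ z := by
    intro h
    apply hyK
    set Q2 := closure ({y, z, s} : Set G)
    have hQ2 : Q2 ≤ Qg := (closure_le _).2 (by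
      intro t ht
      simp only [Set.mem_insert_iff, Set.mem_singleton_iff] at ht
      rcases ht with rfl | rfl | rfl
      · exact hyQ
      · exact hKQ hKz
      · exact hKQ hKs)
    have hc : ∀ q ∈ Q2, q * z = z * q ∧ q * s = s * q := by
      have hcl : Q2 ≤ centralizer ({z, s} : Set G) := (closure_le _).2 (by
        intro t ht
        simp only [Set.mem_insert_iff, Set.mem_singleton_iff] at ht
        rw [SetLike.mem_coe, mem_centralizer_iff]
        intro g hg
        simp only [Set.mem_insert_iff, Set.mem_singleton_iff] at hg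
        rcases ht with rfl | rfl | rfl <;> rcases hg with rfl | rfl
        · exact (mul_inv_eq_iff_eq_mul.1 h).symm
        · exact hys.symm
        · rfl
        · exact hsz.2.2.2.2.2.symm
        · exact hsz.2.2.2.2.2
        · rfl)
      intro q hq
      have := mem_centralizer_iff.mp (hcl hq)
      exact ⟨(this z (by simp)).symm, (this s (by simp)).symm⟩
    exact hSC Q2 (hQ2.trans (hQgL.trans inf_le_left)) (hQg2.to_le hQ2) z
      (subset_closure (by simp)) s (subset_closure (by simp)) hsz hc y (subset_closure (by simp))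
  -- the contradiction in `⟨A, u⟩ ∩ C(K)`
  have huA : u ∉ A := fun h => hu1 (hUtriv u hu h)
  have huu : u * u = 1 := by rw [← pow_two]; exact hUsq u hu
  have huconj : ∀ g ∈ A, u * g * u ∈ A := fun g hg => by
    simpa [huinv] using hnorm u (mem_sup_right hu) g hg
  let Au : Subgroup G :=
    { carrier := {g | g ∈ A ∨ u * g ∈ A}
      one_mem' := Or.inl (one_mem _)
      mul_mem' := by
        intro g g' hg hg'
        have e : u * u = 1 := huu
        rcases hg with hg | hg <;> rcases hg' with hg' | hg'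
        · exact Or.inl (mul_mem hg hg')
        · refine Or.inr ?_
          have := mul_mem (huconj g hg) hg'
          rwa [show u * g * u * (u * g') = u * g * (u * u) * g' by group, e, mul_one,
            mul_assoc] at this
        · refine Or.inr ?_
          rw [← mul_assoc]
          exact mul_mem hg hg'
        · refine Or.inl ?_
          have := mul_mem (huconj _ hg) hg'
          rwa [show u * (u * g) * u * (u * g') = (u * u) * g * (u * u) * g' by group, e, one_mul,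
            mul_one] at this
      inv_mem' := by
        intro g hg
        rcases hg with hg | hg
        · exact Or.inl (inv_mem hg)
        · refine Or.inr ?_
          have := huconj _ (inv_mem hg)
          rw [mul_inv_rev, huinv] at this
          rwa [show u * (g⁻¹ * u) * u = u * g⁻¹ * (u * u) by group, huu, mul_one] at this }
  set LK := Au ⊓ centralizer (K : Set G) with hLK
  have hcentK : ∀ g, g * z = z * g → g * s = s * g → g ∈ centralizer (K : Set G) := by
    intro g h1 h2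
    rw [mem_centralizer_iff]
    intro k hk
    rcases mem_klein.1 hk with rfl | rfl | rfl | rfl
    · simp
    · exact h1.symm
    · exact h2.symm
    · exact ((show Commute g z from h1).mul_right (show Commute g s from h2)).eq.symm
  have hKLK : K ≤ LK := fun k hk => ⟨Or.inl (hKA hk), mem_centralizer_iff.mpr fun g hg =>
    comm_of_isMulCommutative (klein_elementary hsz).1 hg hk⟩
  have hxxL : xx ∈ LK := by
    refine ⟨Or.inr ?_, hcentK xx hxz hxs⟩
    rw [hxxdef, ← mul_assoc, huu, one_mul]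
    exact (hRS hwR).1
  have hxxA : xx ∉ A := fun h => huA (by
    have := mul_mem h (inv_mem (hRS hwR).1)
    rwa [hxxdef, mul_inv_cancel_right] at this)
  have hK0 : IsPGroup 2 (zpowers xx ⊔ K : Subgroup G) := by
    refine IsPGroup.to_sup_of_normal_right' ?_ hK2 ?_
    · intro g
      obtain ⟨i, hi⟩ := mem_zpowers_iff.mp g.2
      refine ⟨2, Subtype.ext ?_⟩
      show (g : G) ^ (2 ^ 2) = 1
      rw [← hi, ← zpow_natCast, ← zpow_mul, mul_comm, zpow_mul, zpow_natCast,
        show (2 : ℕ) ^ 2 = 2 * 2 from rfl, pow_mul, hxx2, hz2, one_zpow]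
    · exact (zpowers_le.mpr hxxL.2).trans (Subgroup.centralizer_le_normalizer _)
  have hK0L : zpowers xx ⊔ K ≤ LK := sup_le (zpowers_le.mpr hxxL) hKLK
  obtain ⟨Q1, hQ1⟩ := (hK0.comap_subtype (K := LK)).exists_le_sylow
  have hsqQ1 : ∀ q : LK, q ∈ (Q1 : Subgroup LK) → (q : G) ^ 2 = 1 ∨ (q : G) ^ 2 = z := by
    set Q3 := A ⊓ (Q1 : Subgroup LK).map LK.subtype with hQ3
    have hKQ3 : K ≤ Q3 := fun k hk =>
      ⟨hKA hk, ⟨⟨k, hKLK hk⟩, hQ1 (mem_sup_right hk : k ∈ zpowers xx ⊔ K), rfl⟩⟩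
    have hQ3K : ∀ q ∈ Q3, q ∈ K := hSC Q3 inf_le_left ((Q1.isPGroup'.map _).to_le inf_le_right)
      z (hKQ3 hKz) s (hKQ3 hKs) hsz (fun q hq => by
        obtain ⟨q', -, rfl⟩ := hq.2
        exact ⟨(mem_centralizer_iff.mp q'.2.2 z hKz).symm, (mem_centralizer_iff.mp q'.2.2 s hKs).symm⟩)
    intro q hq
    rcases q.2.1 with hqA | hqA
    · exact Or.inl ((klein_elementary hsz).2 _ (hQ3K q ⟨hqA, q, hq, rfl⟩))
    · right
      have hxQ : (⟨xx, hxxL⟩ : LK) ∈ (Q1 : Subgroup LK) :=
        hQ1 (mem_sup_left (mem_zpowers xx) : xx ∈ zpowers xx ⊔ K)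
      have hkA : xx⁻¹ * (q : G) ∈ A := by
        rw [hxxdef, mul_inv_rev, huinv, mul_assoc]
        exact mul_mem (inv_mem (show w ∈ A from (hRS hwR).1)) hqA
      have hk : xx⁻¹ * (q : G) ∈ K := hQ3K _ (mem_inf.mpr ⟨hkA,
        ⟨(⟨xx, hxxL⟩ : LK)⁻¹ * q, mul_mem (inv_mem hxQ) hq, rfl⟩⟩)
      have hc : Commute xx (xx⁻¹ * (q : G)) := (mem_centralizer_iff.mp hxxL.2 _ hk).symm
      have := hc.mul_pow 2
      rwa [mul_inv_cancel_left, (klein_elementary hsz).2 _ hk, mul_one, hxx2] at this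
  have hyinv : ∀ k ∈ K, y⁻¹ * k * y ∈ K := by
    intro k hk
    have hmap : K.map (MulAut.conj y).toMonoidHom = K := by
      refine eq_of_le_of_card_ge ?_ ?_
      · rintro _ ⟨t, ht, rfl⟩
        exact hyn t ht
      · rw [← Nat.card_congr (K.equivMapOfInjective _ (MulAut.conj y).injective).toEquiv]
    have hk' := hk
    rw [← hmap] at hk'
    obtain ⟨t, ht, rfl⟩ := hk'
    rw [show y⁻¹ * (MulAut.conj y).toMonoidHom t * y = t by simp [mul_assoc]]
    exact ht
  have hx' : y * xx * y⁻¹ ∈ LK := by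
    refine mem_inf.mpr ⟨mul_mem (mul_mem (Or.inl hyA : y ∈ Au) (show xx ∈ Au from hxxL.1))
      (inv_mem (Or.inl hyA : y ∈ Au)), ?_⟩
    rw [mem_centralizer_iff]
    intro k hk
    have := mem_centralizer_iff.mp hxxL.2 _ (hyinv k hk)
    calc k * (y * xx * y⁻¹) = y * (y⁻¹ * k * y * xx) * y⁻¹ := by group
      _ = y * (xx * (y⁻¹ * k * y)) * y⁻¹ := by rw [this]
      _ = _ := by group
  set x' : LK := ⟨_, hx'⟩ with hx'def
  have hx'2 : (x' : G) ^ 2 = y * z * y⁻¹ := by
    simp only [hx'def]; rw [conj_pow, hxx2]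
  have hx'p : IsPGroup 2 (zpowers x') := by
    intro g
    obtain ⟨i, hi⟩ := mem_zpowers_iff.mp g.2
    refine ⟨2, Subtype.ext ?_⟩
    show (g : LK) ^ (2 ^ 2) = 1
    rw [← hi, ← zpow_natCast, ← zpow_mul, mul_comm, zpow_mul, zpow_natCast]
    have : x' ^ (2 ^ 2) = 1 := Subtype.ext (by
      show (x' : G) ^ (2 ^ 2) = 1
      rw [show (2 : ℕ) ^ 2 = 2 * 2 from rfl, pow_mul, hx'2, conj_pow, hz2, mul_one, mul_inv_cancel])
    rw [this, one_zpow]
  obtain ⟨Q4, hQ4⟩ := hx'p.exists_le_sylow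
  obtain ⟨k, hk⟩ := MulAction.exists_smul_eq LK Q4 Q1
  have hkx : k * x' * k⁻¹ ∈ (Q1 : Subgroup LK) := by
    rw [← hk]
    exact ⟨_, hQ4 (mem_zpowers x'), rfl⟩
  have hzy : y * z * y⁻¹ ∈ K := hyn z hKz
  have hkz : ((k * x' * k⁻¹ : LK) : G) ^ 2 = y * z * y⁻¹ := by
    rw [Subgroup.coe_mul, Subgroup.coe_mul, InvMemClass.coe_inv, conj_pow, hx'2]
    rw [← (mem_centralizer_iff.mp k.2.2 _ hzy), mul_inv_cancel_right]
  rcases hsqQ1 _ hkx with h | h
  · rw [hkz, conj_eq_one_iff] at h; exact hz1 h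
  · rw [hkz] at h; exact hyz h

end Cfsg.FourGroupRank1915
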