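import Cfsg.Agent.Lib.NormalFourGroup

/-!
# Relative four groups: normal 2-subgroups without invariant four subgroup
-/

namespace Cfsg.FourGroupRank1915

open Subgroup Cfsg.Agent.PGroupsCyclic Cfsg.Agent.PGroupsBasic

variable {G : Type*} [Group G] [Finite G]

/-- An element inducing `1 + 2^n` gives a normal four group. -/
theorem four_of_conj_rel (S : Subgroup G) [hS : S.Normal] {x g : G} {n : ℕ} {r : ℤ} (hn1 : 1 ≤ n)
    (hn : (zpowers x).Normal) (hxS : x ∈ S) (hgS : g ∈ S)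
    (hx : orderOf x = 2 ^ (n + 2)) (hcent : S ⊓ centralizer (zpowers x : Set G) = zpowers x)
    (hg : g ∉ zpowers x) (hg2 : g ^ 2 ∈ zpowers x) (hr : g * x * g⁻¹ = x ^ r)
    (hr1 : (2 : ℤ) ^ (n + 1) ∣ r - 1) :
    ∃ E : Subgroup G, E.Normal ∧ E ≤ S ∧ Nat.card E = 4 ∧ Cfsg.IsElementaryAbelian 2 E := by
  obtain ⟨q, hq⟩ := hr1
  have hne : ¬ ((2 : ℤ) ^ (n + 2) ∣ r - 1) := by
    intro h1
    refine hg (hcent ▸ mem_inf.mpr ⟨hgS, mem_centralizer_iff.mpr fun a ha => ?_⟩)
    obtain ⟨k, rfl⟩ := mem_zpowers_iff.mp ha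
    have : g * x ^ k * g⁻¹ = x ^ k := by
      rw [conj_zpow_eq hr, zpow_eq_iff_dvd, hx]
      push_cast
      rw [show r * k - k = (r - 1) * k by ring]
      exact h1.mul_right k
    exact (mul_inv_eq_iff_eq_mul.mp this).symm
  have hqo : Odd q := by
    by_contra h
    rw [Int.not_odd_iff_even] at h
    obtain ⟨k, hk⟩ := h
    exact hne ⟨k, by rw [hq, hk]; ring⟩
  obtain ⟨m, hm⟩ := mem_zpowers_iff.mp hg2
  have hfix : (2 : ℤ) ^ (n + 2) ∣ (r - 1) * m := by
    have h1 : g * x ^ m * g⁻¹ = x ^ m := by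
      rw [hm, mul_inv_eq_iff_eq_mul, ← pow_succ, ← pow_succ']
    rw [conj_zpow_eq hr, zpow_eq_iff_dvd, hx] at h1
    push_cast at h1
    convert h1 using 1; ring
  have hme : Even m := by
    rw [hq, pow_succ (2 : ℤ) (n + 1), mul_assoc] at hfix
    have h2 : (2 : ℤ) ∣ q * m := (mul_dvd_mul_iff_left (by positivity)).1 hfix
    rcases Int.prime_two.dvd_or_dvd h2 with h | h
    · exact absurd (even_iff_two_dvd.2 h) (Int.not_even_iff_odd.2 hqo)
    · exact even_iff_two_dvd.2 h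
  have hsq : ∀ i : ℤ, (g * x ^ i) ^ 2 = x ^ (r * i + (m + i)) := by
    intro i
    calc (g * x ^ i) ^ 2 = (g * x ^ i * g⁻¹) * (g ^ 2 * x ^ i) := by simp [pow_two, mul_assoc]
      _ = _ := by rw [conj_zpow_eq hr, ← hm, ← zpow_add, ← zpow_add]
  obtain ⟨l, hl⟩ := hme
  -- `2 i (1 + 2^n q) + 2 l ≡ 0`
  set u : ℤ := 1 + 2 ^ n * q with hu
  obtain ⟨a, b, hab⟩ : IsCoprime u ((2 : ℤ) ^ (n + 1)) := by
    refine IsCoprime.pow_right ?_
    obtain ⟨j, rfl⟩ := Nat.exists_eq_succ_of_ne_zero (Nat.one_le_iff_ne_zero.1 hn1)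
    exact ⟨1, -(2 ^ j * q), by rw [hu, pow_succ]; ring⟩
  set i : ℤ := -l * a
  have ht2 : (g * x ^ i) ^ 2 = 1 := by
    rw [hsq, ← orderOf_dvd_iff_zpow_eq_one, hx]
    push_cast
    refine ⟨l * b, ?_⟩
    have e1 : r * i + (m + i) = 2 * (u * i + l) := by
      rw [show r = 1 + 2 ^ (n + 1) * q by linear_combination hq, hl, hu, pow_succ]; ring
    rw [e1, pow_succ (2 : ℤ) (n + 1)]
    linear_combination (2 : ℤ) * (-l) * hab
  set t := g * x ^ i
  set z := x ^ (2 ^ (n + 1))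
  have hz2 : z ^ 2 = 1 := by
    rw [← pow_mul, ← pow_succ, ← hx, pow_orderOf_eq_one]
  have hz1 : z ≠ 1 := by
    intro h
    have := orderOf_dvd_of_pow_eq_one h
    rw [hx, Nat.pow_dvd_pow_iff_le_right (by norm_num)] at this
    omega
  have htA : t ∉ zpowers x := fun h => hg (by
    have := mul_mem h (zpow_mem (mem_zpowers x) (-i))
    rwa [mul_assoc, ← zpow_add, add_neg_cancel, zpow_zero, mul_one] at this)
  have hzA : z ∈ zpowers x := pow_mem (mem_zpowers x) _
  have hzc : ∀ h : G, h * z * h⁻¹ = z := by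
    intro h
    rcases sq_eq_one_or_eq hx (hn.conj_mem z hzA h) (by rw [conj_pow, hz2, mul_one, mul_inv_cancel]) with e | e
    · exact absurd (conj_eq_one_iff.1 e) hz1
    · exact e
  have hzt : Commute z t := (mul_inv_eq_iff_eq_mul.1 (hzc t)).symm
  have htr : t * x * t⁻¹ = x ^ r := by
    simp only [t, mul_inv_rev]
    calc g * x ^ i * x * ((x ^ i)⁻¹ * g⁻¹) = g * (x ^ i * x * (x ^ i)⁻¹) * g⁻¹ := by group
      _ = g * x * g⁻¹ := by rw [(Commute.zpow_self x i).eq, mul_inv_cancel_right]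
      _ = _ := hr
  have htconj : ∀ h : G, h * t * h⁻¹ = t ∨ h * t * h⁻¹ = t * z := by
    intro h
    obtain ⟨s', hs'⟩ := exists_conj_eq_zpow hn h⁻¹
    rw [inv_inv] at hs'
    have hw : (h * t * h⁻¹) * x * (h * t * h⁻¹)⁻¹ = t * x * t⁻¹ := by
      have e1 : (h * t * h⁻¹) * x * (h * t * h⁻¹)⁻¹ = h * (t * (h⁻¹ * x * h) * t⁻¹) * h⁻¹ := by
        group
      have e2 : h * x ^ s' * h⁻¹ = x := by rw [← hs']; group
      rw [e1, hs', conj_zpow_eq htr, mul_comm r s', zpow_mul, ← conj_zpow, e2, htr]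
    have hc : t⁻¹ * (h * t * h⁻¹) ∈ zpowers x := by
      rw [← hcent, mem_inf, mem_centralizer_iff]
      have htS : t ∈ S := mul_mem hgS (zpow_mem hxS i)
      refine ⟨mul_mem (inv_mem htS) (hS.conj_mem t htS h), ?_⟩
      intro a ha
      obtain ⟨k, rfl⟩ := mem_zpowers_iff.mp ha
      have e4 : (t⁻¹ * (h * t * h⁻¹)) * x * (t⁻¹ * (h * t * h⁻¹))⁻¹ = x := by
        calc (t⁻¹ * (h * t * h⁻¹)) * x * (t⁻¹ * (h * t * h⁻¹))⁻¹
            = t⁻¹ * ((h * t * h⁻¹) * x * (h * t * h⁻¹)⁻¹) * t := by group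
          _ = x := by rw [hw]; group
      exact ((show Commute (t⁻¹ * (h * t * h⁻¹)) x from
        mul_inv_eq_iff_eq_mul.1 e4).zpow_right k).eq.symm
    obtain ⟨j, hj⟩ := mem_zpowers_iff.mp hc
    have he : h * t * h⁻¹ = t * x ^ j := by rw [hj, mul_inv_cancel_left]
    have hsq' : (t * x ^ j) ^ 2 = 1 := by
      rw [← he, conj_pow, ht2, mul_one, mul_inv_cancel]
    have htinv : t⁻¹ = t := inv_eq_of_mul_eq_one_right (by rw [← pow_two]; exact ht2)
    have e3 : (t * x ^ j) ^ 2 = x ^ (r * j + j) := by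
      rw [pow_two]
      calc t * x ^ j * (t * x ^ j) = (t * x ^ j * t⁻¹) * x ^ j := by rw [htinv]; group
        _ = _ := by rw [conj_zpow_eq htr, ← zpow_add]
    rw [e3, ← orderOf_dvd_iff_zpow_eq_one, hx] at hsq'
    push_cast at hsq'
    rw [show r * j + j = 2 * (u * j) by
      rw [show r = 1 + 2 ^ (n + 1) * q by linear_combination hq, hu, pow_succ]; ring,
      pow_succ' (2 : ℤ) (n + 1), mul_dvd_mul_iff_left (two_ne_zero)] at hsq'
    have hj' : (2 : ℤ) ^ (n + 1) ∣ j :=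
      (IsCoprime.symm (⟨a, b, hab⟩ : IsCoprime u ((2 : ℤ) ^ (n + 1)))).dvd_of_dvd_mul_left hsq'
    rcases sq_eq_one_or_eq hx (zpow_mem (mem_zpowers x) j) (by
      rw [← zpow_natCast, ← zpow_mul, ← orderOf_dvd_iff_zpow_eq_one, hx]
      push_cast
      rw [pow_succ (2 : ℤ) (n + 1)]
      exact mul_dvd_mul_right hj' 2) with e | e
    · left; rw [he, e, mul_one]
    · right; rw [he, e]
  have htz2 : (t * z) ^ 2 = 1 := by rw [hzt.symm.mul_pow, ht2, hz2, one_mul]
  have hzz : z * z = 1 := by rw [← pow_two]; exact hz2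
  have htt : t * t = 1 := by rw [← pow_two]; exact ht2
  have hzti : ∀ y, z * (t * y) = t * (z * y) := fun y => by
    rw [← mul_assoc, hzt.eq, mul_assoc]
  let E : Subgroup G :=
    { carrier := {1, z, t, t * z}
      one_mem' := by simp
      mul_mem' := by
        rintro u v (rfl | rfl | rfl | rfl) (rfl | rfl | rfl | rfl) <;>
          simp [mul_assoc, hzt.eq, hzti, hzz, htt, ← mul_assoc t t]
      inv_mem' := by
        rintro u (rfl | rfl | rfl | rfl) <;>
          simp [inv_eq_of_mul_eq_one_right hzz, inv_eq_of_mul_eq_one_right htt, hzt.eq] }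
  have hmem : ∀ w, w ∈ E ↔ w = 1 ∨ w = z ∨ w = t ∨ w = t * z := fun w => Iff.rfl
  refine ⟨E, ⟨fun w hw h => ?_⟩, ?_, ?_, ⟨⟨fun u v => Subtype.ext ?_⟩⟩, fun w hw => ?_⟩
  · rw [hmem] at hw ⊢
    rcases hw with rfl | rfl | rfl | rfl
    · left; simp
    · right; left; exact hzc h
    · rcases htconj h with e | e <;> simp [e]
    · have : h * (t * z) * h⁻¹ = (h * t * h⁻¹) * (h * z * h⁻¹) := by group
      rw [this, hzc h]
      rcases htconj h with e | e
      · simp [e]
      · right; right; left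
        rw [e, mul_assoc, hzz, mul_one]
  · intro w hw
    have htS : t ∈ S := mul_mem hgS (zpow_mem hxS i)
    rcases (hmem _).1 hw with rfl | rfl | rfl | rfl
    · exact one_mem _
    · exact pow_mem hxS _
    · exact htS
    · exact mul_mem htS (pow_mem hxS _)
  · have hc : Nat.card E = ({1, z, t, t * z} : Set G).ncard := Nat.card_coe_set_eq _
    rw [hc, Set.ncard_insert_of_notMem, Set.ncard_insert_of_notMem, Set.ncard_insert_of_notMem,
      Set.ncard_singleton]
    · simp only [Set.mem_singleton_iff]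
      intro e
      exact hz1 (mul_eq_left.1 e.symm)
    · simp only [Set.mem_insert_iff, Set.mem_singleton_iff]
      rintro (e | e)
      · exact htA (e ▸ hzA)
      · exact htA ((right_eq_mul.1 e) ▸ one_mem _)
    · simp only [Set.mem_insert_iff, Set.mem_singleton_iff]
      rintro (e | e | e)
      · exact hz1 e.symm
      · exact htA (e ▸ one_mem _)
      · exact htA (eq_inv_of_mul_eq_one_left e.symm ▸ inv_mem hzA)
  · rcases (hmem _).1 u.2 with e | e | e | e <;> rcases (hmem _).1 v.2 with e' | e' | e' | e' <;>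
      simp [e, e', mul_assoc, hzt.eq, hzti]
  · rcases (hmem _).1 hw with rfl | rfl | rfl | rfl
    · simp
    · exact hz2
    · exact ht2
    · exact htz2

/-- A normal subgroup `S` of a 2-group either contains a normal four group, or is cyclic, or has a
normal cyclic subgroup of index two on which the outside elements act as inversion modulo `4`. -/
theorem four_or_cyclic_index_two (hG : IsPGroup 2 G) (S : Subgroup G) [hSn : S.Normal] :
    (∃ E : Subgroup G, E.Normal ∧ E ≤ S ∧ Nat.card E = 4 ∧ Cfsg.IsElementaryAbelian 2 E) ∨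
      IsCyclic S ∨
      ∃ (x : G) (e : ℕ), x ∈ S ∧ (zpowers x).Normal ∧ orderOf x = 2 ^ e ∧ 2 ≤ e ∧
        (∀ g ∈ S, g ∉ zpowers x → g ^ 2 ∈ zpowers x) ∧
        (∀ g ∈ S, g ∉ zpowers x → ∀ h ∈ S, h ∉ zpowers x → g * h ∈ zpowers x) ∧
        (∀ g ∈ S, g ∉ zpowers x → ∀ r : ℤ, g * x * g⁻¹ = x ^ r → r % 4 = 3) := by
  have : Fact (Nat.Prime 2) := ⟨Nat.prime_two⟩
  by_cases hfour : ∃ E : Subgroup G, E.Normal ∧ E ≤ S ∧ Nat.card E = 4 ∧ Cfsg.IsElementaryAbelian 2 E
  · exact Or.inl hfour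
  obtain ⟨A, hAn, hAS, hAc, hAC⟩ := exists_selfCentralizing hG S
  have hAcyc : IsCyclic A := by
    by_contra hA
    let O : Subgroup G :=
      { carrier := {g | g ∈ A ∧ g ^ 2 = 1}
        one_mem' := ⟨one_mem _, one_pow _⟩
        mul_mem' := fun {a b} ha hb => ⟨mul_mem ha.1 hb.1, by
          rw [Commute.mul_pow (comm_of_isMulCommutative hAc ha.1 hb.1), ha.2, hb.2, one_mul]⟩
        inv_mem' := fun {a} ha => ⟨inv_mem ha.1, by rw [inv_pow, ha.2, inv_one]⟩ }
    haveI hOn : O.Normal := ⟨fun a ha g => ⟨hAn.conj_mem a ha.1 g, by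
      rw [conj_pow, ha.2, mul_one, mul_inv_cancel]⟩⟩
    have hO : Cfsg.IsElementaryAbelian 2 O :=
      ⟨isMulCommutative_mono hAc fun _ h => h.1, fun a ha => ha.2⟩
    have hcard : 2 ^ 2 ≤ Nat.card O := by
      by_contra hlt
      obtain ⟨k, hk⟩ := IsPGroup.iff_card.mp (hG.to_subgroup O)
      rw [hk, not_le, Nat.pow_lt_pow_iff_right (by norm_num)] at hlt
      have hOc : IsCyclic O := by
        interval_cases k
        · haveI : Subsingleton O := (Nat.card_eq_one_iff_unique.mp (by simpa using hk)).1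
          exact isCyclic_of_subsingleton
        · exact isCyclic_of_prime_card (p := 2) (by simpa using hk)
      obtain ⟨z, hz⟩ := hOc.exists_generator
      refine hA (isCyclic_subgroup hG hAc z.2.1 (fun g hg hgp => ?_)
        (Nat.le_of_dvd two_pos (orderOf_dvd_of_pow_eq_one z.2.2)))
      obtain ⟨j, hj⟩ := mem_zpowers_iff.mp (hz ⟨g, hg, hgp⟩)
      exact mem_zpowers_iff.mpr ⟨j, congrArg Subtype.val hj⟩
    obtain ⟨E, hEn, hEle, hEcard⟩ := exists_normal_card_pow hG O 2 hcard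
    exact hfour ⟨E, hEn, fun g hg => hAS (hEle hg).1, hEcard, isElementaryAbelian_mono hO hEle⟩
  obtain ⟨x', hx'⟩ := hAcyc.exists_generator
  obtain ⟨x, rfl⟩ : ∃ x, A = zpowers x := ⟨x'.1, le_antisymm (fun a ha => by
    obtain ⟨i, hi⟩ := mem_zpowers_iff.mp (hx' ⟨a, ha⟩)
    exact mem_zpowers_iff.mpr ⟨i, congrArg Subtype.val hi⟩) (zpowers_le.mpr x'.2)⟩
  obtain ⟨e, he⟩ : ∃ e, orderOf x = 2 ^ e := by
    obtain ⟨k, hk⟩ := hG x
    obtain ⟨e, -, he⟩ := (Nat.dvd_prime_pow Nat.prime_two).mp (orderOf_dvd_of_pow_eq_one hk)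
    exact ⟨e, he⟩
  have hxS : x ∈ S := hAS (mem_zpowers x)
  rcases Nat.lt_or_ge e 2 with hlt | he2
  · refine Or.inr (Or.inl ?_)
    have hall : ∀ g ∈ S, g ∈ zpowers x := by
      intro g hgS
      rw [← hAC, mem_inf, mem_centralizer_iff]
      refine ⟨hgS, ?_⟩
      intro a ha
      have ha2 : ∀ b ∈ zpowers x, b ^ 2 = 1 := by
        intro b hb
        obtain ⟨i, rfl⟩ := mem_zpowers_iff.mp hb
        rw [← zpow_natCast, ← zpow_mul, ← orderOf_dvd_iff_zpow_eq_one, he]
        interval_cases e <;> norm_num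
      have hgx : g * x * g⁻¹ = x := by
        obtain ⟨r, hr⟩ := exists_conj_eq_zpow hAn g
        rcases Int.even_or_odd r with ⟨k, rfl⟩ | ⟨k, rfl⟩
        · rw [show x ^ (k + k) = 1 by
            rw [show k + k = k * 2 by ring, zpow_mul]
            exact_mod_cast ha2 _ (zpow_mem (mem_zpowers x) k), conj_eq_one_iff] at hr
          simp [hr]
        · rw [hr, zpow_add, zpow_one, mul_comm 2 k, zpow_mul]
          rw [show ((x ^ k) ^ (2 : ℤ)) = 1 by exact_mod_cast ha2 _ (zpow_mem (mem_zpowers x) k), one_mul]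
      obtain ⟨i, rfl⟩ := mem_zpowers_iff.mp ha
      exact ((show Commute g x from mul_inv_eq_iff_eq_mul.1 hgx).zpow_right i).eq.symm
    have hSeq : S = zpowers x := le_antisymm hall (zpowers_le.mpr hxS)
    rw [hSeq]
    infer_instance
  have key : ∀ g : G, g ∈ S → g ∉ zpowers x → g ^ 2 ∈ zpowers x →
      ∀ r : ℤ, g * x * g⁻¹ = x ^ r → r % 4 = 3 := by
    intro g hgS hg hg2 r hr
    obtain ⟨m, hm⟩ := mem_zpowers_iff.mp hg2
    have hd := dvd_of_pow_mem hr (hm ▸ Commute.zpow_self x m : Commute (g ^ 2) x)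
    rw [he] at hd
    push_cast at hd
    obtain ⟨n, rfl⟩ : ∃ n, e = n + 2 := ⟨e - 2, by omega⟩
    have h4 : ∀ j : ℕ, (4 : ℤ) ∣ 2 ^ (j + 2) := fun j => ⟨2 ^ j, by rw [pow_add]; ring⟩
    rcases Nat.eq_zero_or_pos n with rfl | hn1
    · norm_num at hd
      rcases Int.even_or_odd r with ⟨k, hk⟩ | ⟨k, hk⟩
      · exfalso
        rw [hk, show (k + k) ^ 2 - 1 = 4 * (k * k) - 1 by ring] at hd
        omega
      · rcases Int.even_or_odd k with ⟨j, hj⟩ | ⟨j, hj⟩
        · exfalso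
          refine hg (hAC ▸ mem_inf.mpr ⟨hgS, mem_centralizer_iff.mpr fun a ha => ?_⟩)
          obtain ⟨i, rfl⟩ := mem_zpowers_iff.mp ha
          have h1 : g * x * g⁻¹ = x := by
            rw [hr]; conv_rhs => rw [← zpow_one x]
            rw [zpow_eq_iff_dvd, he]
            exact ⟨j, by rw [hk, hj]; push_cast; ring⟩
          exact ((show Commute g x from mul_inv_eq_iff_eq_mul.1 h1).zpow_right i).eq.symm
        · omega
    rcases int_sq_sub_one hd with h1 | h1
    · exact absurd (four_of_conj_rel S hn1 hAn hxS hgS he hAC hg hg2 hr h1) hfour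
    · have : (4 : ℤ) ∣ r + 1 := by
        obtain ⟨j, rfl⟩ := Nat.exists_eq_succ_of_ne_zero hn1.ne'
        exact (h4 j).trans h1
      omega
  have hsq : ∀ g ∈ S, g ^ 2 ∈ zpowers x := by
    intro g hgS
    classical
    have hex : ∃ k, g ^ 2 ^ k ∈ zpowers x := by
      obtain ⟨k, hk⟩ := hG g
      exact ⟨k, hk ▸ one_mem _⟩
    set k := Nat.find hex with hk
    by_contra hcon
    have h1 : ¬ k ≤ 1 := by
      intro h
      apply hcon
      have := Nat.find_spec hex
      rw [← hk] at this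
      interval_cases k
      · rw [pow_two]; simp only [pow_zero, pow_one] at this; exact mul_mem this this
      · simpa using this
    obtain ⟨r, hr⟩ := exists_conj_eq_zpow hAn g
    obtain ⟨j, hj⟩ : ∃ j, k = j + 2 := ⟨k - 2, by omega⟩
    have h2 := key (g ^ 2 ^ (j + 1)) (pow_mem hgS _) (Nat.find_min hex (by omega)) (by
      rw [← pow_mul, ← pow_succ]
      have := Nat.find_spec hex
      rw [← hk, hj] at this
      exact this) (r ^ 2 ^ (j + 1)) (conj_iterate hr _)
    rw [pow_succ, pow_mul, sq] at h2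
    rcases Int.even_or_odd (r ^ 2 ^ j) with ⟨w, hw⟩ | ⟨w, hw⟩
    · rw [hw, show (w + w) * (w + w) = 4 * (w * w) by ring] at h2; omega
    · rw [hw, show (2 * w + 1) * (2 * w + 1) = 4 * (w * w + w) + 1 by ring] at h2; omega
  refine Or.inr (Or.inr ⟨x, e, hxS, hAn, he, he2, fun g hg _ => hsq g hg, ?_,
    fun g hg hgn r hr => key g hg hgn (hsq g hg) r hr⟩)
  intro g hg hgn h hh hhn
  by_contra hgh
  obtain ⟨r, hr⟩ := exists_conj_eq_zpow hAn g
  obtain ⟨s, hs⟩ := exists_conj_eq_zpow hAn h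
  have e1 := key g hg hgn (hsq g hg) r hr
  have e2 := key h hh hhn (hsq h hh) s hs
  have h3 : (g * h) * x * (g * h)⁻¹ = x ^ (r * s) := by
    rw [← conj_zpow_eq hr s, ← hs]
    group
  have e3 := key (g * h) (mul_mem hg hh) hgh (hsq _ (mul_mem hg hh)) _ h3
  rw [Int.mul_emod, e1, e2] at e3
  omega

end Cfsg.FourGroupRank1915
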